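import Cfsg.Agent.Lib.Mult.Glue
import Cfsg.Agent.Lib.Grp.J1.Main

set_option autoImplicit false
set_option maxRecDepth 100000
set_option Elab.async false

namespace Cfsg.Agent.Mult.J1

open Cfsg.Agent.CG Cfsg.Agent.CG.J1

noncomputable def p2T : ℕ := 0xc02c02c02000000802802000000000402000000000000
noncomputable def p2q1 : ℕ := 0x3081
noncomputable def p2q2 : ℕ := 0xee4d
noncomputable def p2NF : ℕ := 0x10000000000000100000000000001000000000000000000000000000000000000010000000000000100000000000000000000000000000000000000000000000001000000000000000000000000000000000000000000000000000000000000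
noncomputable def p2gv : ℕ := 0x101000100000100000000000100000100010101000101000100010000010001000000
noncomputable def p2av : ℕ := 0x0
noncomputable def p2mu : ℕ := 0x441100440000000104140000000000051000000000000000
noncomputable def p2om : ℕ := 0x0
noncomputable def p2tm : ℕ := 0x9995439921999099999
noncomputable def p2par : ℕ := 0x1ee6a925
noncomputable def p2z : Desc := ⟨0,0,0,0,[],[]⟩
noncomputable def p2ds : Tr Desc := (.node (.node (.node (.node (.node (.leaf p2z) (.leaf p2z)) (.leaf p2z)) (.node (.leaf p2z) (.leaf p2z))) (.node (.node (.node (.leaf p2z) (.leaf p2z)) (.leaf ⟨0,2,0,0,[],[]⟩)) (.node (.leaf p2z) (.leaf ⟨0,4,0,0,[],[]⟩)))) (.node (.node (.node (.node (.leaf p2z) (.leaf p2z)) (.leaf ⟨0,1,0,0,[],[]⟩)) (.node (.leaf ⟨0,0,0,0,[],[]⟩) (.leaf ⟨0,3,0,0,[],[]⟩))) (.node (.node (.leaf p2z) (.leaf p2z)) (.node (.leaf p2z) (.leaf ⟨0,5,0,0,[],[]⟩)))))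
noncomputable def p2rd : Tr Desc := (.node (.node (.node (.leaf ⟨2,0,0,0,[0,0],[]⟩) (.leaf ⟨2,0,0,0,[1,0],[0,1]⟩)) (.leaf ⟨2,0,0,0,[1,1],[]⟩)) (.node (.node (.leaf ⟨2,0,0,0,[2,2],[]⟩) (.leaf ⟨2,0,0,0,[2,1],[1,2]⟩)) (.leaf ⟨2,0,0,0,[2,0],[0,2]⟩)))
noncomputable def D2 : Dat where
  p := 2
  q := 2
  n1 := 4
  b := 2
  fl := 3
  ew := 12
  T := p2T
  w := 8
  fuel := 10
  nf := 1
  cm := 3
  q1 := fun x => look 0x3f p2q1 (Nat.mul 6 x)
  q2 := fun x => look 0x3f p2q2 (Nat.mul 6 x)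
  NV := 19
  d := 6
  w2 := 8
  NF := fun x => look 0xffffffffffff p2NF (Nat.mul 48 x)
  tm := fun x => look 0xf p2tm (Nat.mul 4 x)
  TM := 9
  par := fun x => look 0x1f p2par (Nat.mul 5 x)
  ds := fun x => p2ds.get x
  r := 6
  s0 := 0
  gv := fun x => look 0xffffffffffff p2gv (Nat.mul 48 x)
  rd := fun x => p2rd.get x
  av := fun x => look 0xffffffffffff p2av (Nat.mul 48 x)
  mw := 2
  mu := fun x => look 0xfff p2mu (Nat.mul 12 x)
  ms := []
  om := fun x => look 0xfff p2om (Nat.mul 12 x)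
noncomputable def p2w1 : List (List ℕ) := [[18,5,22,18,24],
  [13,8,32,23,30],
  [22,0,21,18,22,27],
  [25,3,18,18,28,23]]
noncomputable def p2w2 : List (List ℕ) := [[1],
  [2],
  [3]]
noncomputable def p2L0c : ℕ := 0x3d9f8
noncomputable def p2L0p : ℕ := 0x0
noncomputable def p2L0l : ℕ := 0x400
noncomputable def p2L0q : ℕ := 0x40000
noncomputable def p2L1c : ℕ := 0x33c7b0
noncomputable def p2L1p : ℕ := 0x0
noncomputable def p2L1l : ℕ := 0x1800
noncomputable def p2L1q : ℕ := 0x800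
noncomputable def p2L2c : ℕ := 0x30075c
noncomputable def p2L2p : ℕ := 0x0
noncomputable def p2L2l : ℕ := 0x800
noncomputable def p2L2q : ℕ := 0x800
noncomputable def p2L : List Lvl := [mkLvl 504 [2] 2 9 p2L0c p2L0p p2L0l 5 p2L0q,
  mkLvl 1968 [3] 2 11 p2L1c p2L1p p2L1l 5 p2L1q,
  mkLvl 1884 [1] 2 11 p2L2c p2L2p p2L2l 5 p2L2q]

theorem p2c0 : okcb 266 12 (bases p2L) = true := by decide +kernel
theorem p2c1 : D2.chkNum 0 3 175560 p2w2 p2L = true := by decide +kernel
theorem p2c2 : headAll (appW (appW app p2w1) p2w2) p2L [] = true := by decide +kernel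
theorem p2c3 : allL (fun l => l.chk (appW (appW app p2w1) p2w2) 1 (l.N - 1)) p2L = true := by decide +kernel
theorem p2c4 : D2.chkPc (appW app p2w1) bs 0 16 = true := by decide +kernel
theorem p2c5 : D2.chkFus (appW app p2w1) bs 0 3 = true := by decide +kernel
theorem p2c6 : D2.chkHead = true := by decide +kernel
theorem p2c7 : D2.chkVars 0 19 = true := by decide +kernel
theorem p2c8 : D2.chkRhos 0 6 = true := by decide +kernel
theorem p2c9 : D2.chkEnts 0 16 = true := by decide +kernel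

theorem pb2 : PB PG 2 [] :=
  Dat.pbA (D := D2) base card (by norm_num : Nat.Prime 2) (okc_of_okcb p2c0) p2c1 p2c2 p2c3
    p2c4
    p2c5
    p2c6 p2c7
    p2c8
    p2c9

end Cfsg.Agent.Mult.J1
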